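import Mathlib

/-!
# Antisymmetric quadratic cocycles come from linear endomorphisms, which have eigenvectors
-/

set_option autoImplicit false

universe u

open MvPolynomial

noncomputable section

namespace Groth.Agent.PnVecFieldLib

variable {R : Type u} [CommRing R] {σ : Type*} [DecidableEq σ]

/-- Setting a variable to zero. -/
def kill (a : σ) : MvPolynomial σ R →ₐ[R] MvPolynomial σ R := aeval (Function.update X a 0)

theorem kill_X_self (a : σ) : kill (R := R) a (X a) = 0 := by simp [kill]

theorem kill_X_ne {a b : σ} (h : b ≠ a) : kill (R := R) a (X b) = X b := by simp [kill, h]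

theorem X_dvd_sub_kill (a : σ) (G : MvPolynomial σ R) : X a ∣ G - kill a G := by
  induction G using MvPolynomial.induction_on with
  | C r => simp [kill]
  | add p q hp hq => rw [map_add, add_sub_add_comm]; exact dvd_add hp hq
  | mul_X p b hp =>
    rw [map_mul]
    rcases eq_or_ne b a with rfl | h
    · rw [kill_X_self, mul_zero, sub_zero]; exact dvd_mul_left _ _
    · rw [kill_X_ne h, ← sub_mul]; exact dvd_mul_of_dvd_left hp _

theorem kill_comm (a b : σ) (G : MvPolynomial σ R) : kill a (kill b G) = kill b (kill a G) := by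
  suffices h : (kill (R := R) a).comp (kill b) = (kill b).comp (kill a) from AlgHom.congr_fun h G
  refine algHom_ext fun c => ?_
  simp only [AlgHom.comp_apply]
  rcases eq_or_ne c a with rfl | hca
  · rcases eq_or_ne c b with rfl | hcb
    · rfl
    · rw [kill_X_self, map_zero, kill_X_ne hcb, kill_X_self]
  · rcases eq_or_ne c b with rfl | hcb
    · rw [kill_X_self, map_zero, kill_X_ne hca, kill_X_self]
    · rw [kill_X_ne hcb, kill_X_ne hca, kill_X_ne hcb]

theorem homogeneousComponent_X_mul (a : σ) (d : ℕ) (p : MvPolynomial σ R) :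
    homogeneousComponent (d + 1) (X a * p) = X a * homogeneousComponent d p := by
  refine ext _ _ fun m => ?_
  rw [coeff_homogeneousComponent, coeff_X_mul', coeff_X_mul']
  by_cases ha : a ∈ m.support
  · rw [if_pos ha, if_pos ha, coeff_homogeneousComponent]
    have hm : m.degree = (m - Finsupp.single a 1).degree + 1 := by
      have hle : Finsupp.single a 1 ≤ m := by
        rw [Finsupp.single_le_iff]; exact Nat.one_le_iff_ne_zero.2 (Finsupp.mem_support_iff.1 ha)
      have h := congrArg Finsupp.degree (tsub_add_cancel_of_le hle)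
      rw [map_add, Finsupp.degree_single] at h
      exact h.symm
    by_cases hd : (m - Finsupp.single a 1).degree = d
    · rw [if_pos hd, if_pos (by omega)]
    · rw [if_neg hd, if_neg (by omega)]
  · rw [if_neg ha, if_neg ha]; simp

/-- The structure of a cocycle of quadratic forms. -/
theorem exists_linear {k : Type u} [Field k] {n : ℕ}
    (G : Fin (n + 1) → Fin (n + 1) → MvPolynomial (Fin (n + 1)) k)
    (hG : ∀ a b, (G a b).IsHomogeneous 2) (hdiag : ∀ a, G a a = 0)
    (hcoc : ∀ a b c, X b * G a c = X c * G a b + X a * G b c) :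
    ∃ L : Fin (n + 1) → MvPolynomial (Fin (n + 1)) k, (∀ a, (L a).IsHomogeneous 1) ∧
      ∀ a b, G a b = X b * L a - X a * L b := by
  classical
  have h0 : ∀ a b, X 0 * G a b = X b * G a 0 - X a * G b 0 := fun a b => by
    rw [hcoc a b 0, add_sub_cancel_right]
  have hanti : ∀ b, G 0 b = - G b 0 := fun b => by
    refine mul_left_cancel₀ (X_ne_zero (R := k) (0 : Fin (n + 1))) ?_
    rw [h0 0 b, hdiag]
    ring
  -- the restriction to the hyperplane
  have hg : ∀ a b, a ≠ 0 → b ≠ 0 → X b * kill 0 (G a 0) = X a * kill 0 (G b 0) := fun a b ha hb => by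
    have h := congrArg (kill 0) (h0 a b)
    rw [map_mul, map_sub, map_mul, map_mul, kill_X_self, kill_X_ne ha, kill_X_ne hb, zero_mul] at h
    exact sub_eq_zero.1 h.symm
  have hdvd : ∀ a, a ≠ 0 → X a ∣ kill 0 (G a 0) := fun a ha => by
    have hzero : kill a (kill 0 (G a 0)) = 0 := by
      by_cases hb : ∃ b, b ≠ 0 ∧ b ≠ a
      · obtain ⟨b, hb0, hba⟩ := hb
        have h := congrArg (kill a) (hg a b ha hb0)
        rw [map_mul, map_mul, kill_X_self, kill_X_ne hba, zero_mul] at h
        exact (mul_eq_zero.1 h).resolve_left (X_ne_zero _)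
      · push Not at hb
        have h : (kill (R := k) a).comp (kill (0 : Fin (n + 1))) =
            aeval (fun _ : Fin (n + 1) => (0 : MvPolynomial (Fin (n + 1)) k)) := algHom_ext fun c => by
          rw [aeval_X, AlgHom.comp_apply]
          rcases eq_or_ne c 0 with rfl | hc
          · rw [kill_X_self, map_zero]
          · rw [kill_X_ne hc, hb c hc, kill_X_self]
        rw [← AlgHom.comp_apply, h, aeval_zero', constantCoeff_eq, (hG a 0).coeff_eq_zero (by simp), map_zero]
    have h := X_dvd_sub_kill a (kill 0 (G a 0))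
    rwa [hzero, sub_zero] at h
  choose Mf hMf using hdvd
  have hM : ∃ M, ∀ a, a ≠ 0 → kill 0 (G a 0) = X a * M := by
    by_cases h1 : ∃ a₁ : Fin (n + 1), a₁ ≠ 0
    · obtain ⟨a₁, ha₁⟩ := h1
      refine ⟨Mf a₁ ha₁, fun a ha => mul_left_cancel₀ (X_ne_zero (R := k) a₁) ?_⟩
      rw [hg a a₁ ha ha₁, hMf a₁ ha₁]
      ring
    · exact ⟨0, fun a ha => absurd ⟨a, ha⟩ h1⟩
  obtain ⟨M, hM⟩ := hM
  choose Q hQ using fun a => X_dvd_sub_kill (R := k) (0 : Fin (n + 1)) (G a 0)
  let L' : Fin (n + 1) → MvPolynomial (Fin (n + 1)) k := fun a => if a = 0 then -M else Q a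
  have hL' : ∀ a, G a 0 = X 0 * L' a - X a * L' 0 := fun a => by
    rcases eq_or_ne a 0 with rfl | ha
    · rw [hdiag, sub_self]
    · show G a 0 = X 0 * (if a = 0 then -M else Q a) - X a * (if (0 : Fin (n + 1)) = 0 then -M else Q 0)
      rw [if_neg ha, if_pos rfl, mul_neg, sub_neg_eq_add, ← hM a ha, ← hQ a, sub_add_cancel]
  let L : Fin (n + 1) → MvPolynomial (Fin (n + 1)) k := fun a => homogeneousComponent 1 (L' a)
  have hL : ∀ a, G a 0 = X 0 * L a - X a * L 0 := fun a => by
    have h := congrArg (homogeneousComponent 2) (hL' a)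
    rwa [map_sub, homogeneousComponent_X_mul, homogeneousComponent_X_mul, homogeneousComponent_of_mem (hG a 0),
      if_pos rfl] at h
  refine ⟨L, fun a => homogeneousComponent_isHomogeneous _ _, fun a b =>
    mul_left_cancel₀ (X_ne_zero (R := k) (0 : Fin (n + 1))) ?_⟩
  rw [h0 a b, hL a, hL b]
  ring

/-- The value of a linear form is linear. -/
theorem exists_row {k K : Type u} [CommRing k] [CommRing K] [Algebra k K] {m : ℕ} {L : MvPolynomial (Fin m) k}
    (hL : L.IsHomogeneous 1) : ∃ A : Fin m → k, ∀ v : Fin m → K, aeval v L = ∑ b, algebraMap k K (A b) * v b := by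
  classical
  refine ⟨fun b => coeff (Finsupp.single b 1) L, fun v => ?_⟩
  have h : L = ∑ b, C (coeff (Finsupp.single b 1) L) * X b := by
    refine ext _ _ fun d => ?_
    rw [coeff_sum]
    simp only [coeff_C_mul, coeff_X', mul_ite, mul_one, mul_zero]
    by_cases hd : d.degree = 1
    · obtain ⟨b, rfl⟩ := (Finsupp.sum_eq_one_iff d).1 hd
      rw [Finset.sum_eq_single b]
      · rw [if_pos rfl]
      · intro c _ hc
        rw [if_neg fun he => hc (Finsupp.single_left_injective one_ne_zero he)]
      · exact fun h => absurd (Finset.mem_univ _) h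
    · rw [hL.coeff_eq_zero hd, Finset.sum_eq_zero fun c _ => ?_]
      rw [if_neg]
      rintro rfl
      exact hd (Finsupp.degree_single _ _)
  conv_lhs => rw [h]
  simp [map_sum]

/-- Homogeneous forms and scaling. -/
theorem eval₂_scale {A K : Type*} [CommRing A] [CommRing K] {τ : Type*} (c : A →+* K) (v : τ → K) (t : K) {m : ℕ}
    {H : MvPolynomial τ A} (hH : H.IsHomogeneous m) :
    eval₂Hom c (fun a => t * v a) H = t ^ m * eval₂Hom c v H := by
  rw [coe_eval₂Hom, coe_eval₂Hom, eval₂_eq, eval₂_eq, Finset.mul_sum]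
  refine Finset.sum_congr rfl fun d hd => ?_
  simp only [mul_pow]
  rw [Finset.prod_mul_distrib, Finset.prod_pow_eq_pow_sum, ← hH.degree_eq_sum_deg_support hd]
  ring

/-- A common zero of a cocycle of quadratic forms over an algebraically closed extension. -/
theorem exists_zero {k : Type u} [Field k] {n : ℕ}
    (G : Fin (n + 1) → Fin (n + 1) → MvPolynomial (Fin (n + 1)) k)
    (hG : ∀ a b, (G a b).IsHomogeneous 2) (hdiag : ∀ a, G a a = 0)
    (hcoc : ∀ a b c, X b * G a c = X c * G a b + X a * G b c)
    (K : Type u) [Field K] [Algebra k K] [IsAlgClosed K] :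
    ∃ v : Fin (n + 1) → K, v ≠ 0 ∧ ∀ a b, aeval v (G a b) = 0 := by
  classical
  obtain ⟨L, hL, hGL⟩ := exists_linear G hG hdiag hcoc
  choose A hA using fun a => exists_row (K := K) (hL a)
  let T := Matrix.toLin' (Matrix.of fun a b => algebraMap k K (A a b))
  obtain ⟨μ, hμ⟩ := Module.End.exists_eigenvalue T
  obtain ⟨v, hv⟩ := hμ.exists_hasEigenvector
  refine ⟨v, hv.2, fun a b => ?_⟩
  have h : ∀ c, aeval v (L c) = μ * v c := fun c => by
    have h1 := congrFun hv.apply_eq_smul c
    rw [Pi.smul_apply, smul_eq_mul] at h1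
    rw [hA c v, ← h1]
    rfl
  rw [hGL, map_sub, map_mul, map_mul, aeval_X, aeval_X, h, h]
  ring

end Groth.Agent.PnVecFieldLib
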