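import Groth.Agent.PnVecFieldLib.Alg
import Groth.Agent.PicProjLib.Chart
import Groth.Agent.SFFLib.Chart
import Groth.Agent.OmegaUnivLib.Univ

/-!
# Vector fields on projective space vanish somewhere
-/

set_option autoImplicit false
set_option backward.isDefEq.respectTransparency false
set_option linter.style.haveILetI false

universe u

open CategoryTheory AlgebraicGeometry TopologicalSpace MvPolynomial Opposite
open Groth.Agent.AmpleEmb Groth.Agent.PicProjLib Groth.Agent.DegDevLib

noncomputable section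

namespace Groth.Agent.PnVecFieldLib

variable (n : ℕ) (k : Type u) [Field k]

local notation "Pn" => CohB1.ProjSpace n k
local notation "str" => CohB1.ProjSpace.toSpec n k

theorem coordRatio_self (b : Fin (n + 1)) : coordRatio n k b b = 1 :=
  (Pn).germToFunctionField_injective (stdOpen n k b) ((t_self n k b).trans (map_one _).symm)

theorem chartEquiv_C (b : Fin (n + 1)) (r : k) :
    chartEquiv n k b (C r) = (str).appLE ⊤ (stdOpen n k b) le_top ((Scheme.ΓSpecIso (CommRingCat.of k)).inv r) := by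
  have h := ProjCoh.φV_projφ (CohB1.polyGrading n k) (ProjMap.X_mem (R := k) b) one_pos r
  refine Eq.trans ?_ (h.symm.trans ?_)
  · show Proj.awayToSection _ (X b) (polyToAway n k b (C r)) = _
    rw [polyToAway, eval₂Hom_C]
    rfl
  · rfl

theorem chartEquiv_eq_aeval (b : Fin (n + 1)) :
    letI := ((str).appLE ⊤ (stdOpen n k b) le_top).hom.toAlgebra
    Function.Bijective (aeval (R := Γ(Spec (CommRingCat.of k), ⊤)) fun j : Fin n => coordRatio n k b (b.succAbove j)) := by
  letI := ((str).appLE ⊤ (stdOpen n k b) le_top).hom.toAlgebra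
  let e : Γ(Spec (CommRingCat.of k), ⊤) ≃+* k := (Scheme.ΓSpecIso (CommRingCat.of k)).commRingCatIsoToRingEquiv
  have h : (aeval (R := Γ(Spec (CommRingCat.of k), ⊤)) fun j : Fin n => coordRatio n k b (b.succAbove j)).toRingHom =
      (chartEquiv n k b).toRingHom.comp (MvPolynomial.map e.toRingHom) := by
    refine MvPolynomial.ringHom_ext (fun a => ?_) fun j => ?_
    · simp only [AlgHom.toRingHom_eq_coe, RingHom.coe_coe, aeval_C, RingHom.comp_apply, map_C]
      refine Eq.trans ?_ (chartEquiv_C n k b _).symm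
      exact congrArg _ (e.symm_apply_apply a).symm
    · simp only [AlgHom.toRingHom_eq_coe, RingHom.coe_coe, aeval_X, RingHom.comp_apply, map_X]
      exact (chartEquiv_X n k b j).symm
  rw [show (⇑(aeval (R := Γ(Spec (CommRingCat.of k), ⊤)) fun j : Fin n => coordRatio n k b (b.succAbove j))) = _ from
    congrArg (fun φ : MvPolynomial _ _ →+* _ => ⇑φ) h]
  exact (chartEquiv n k b).bijective.comp (MvPolynomial.mapEquiv (Fin n) e).bijective

/-! ### Homogeneous forms and their dehomogenizations -/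

theorem exists_homog (b : Fin (n + 1)) (p : MvPolynomial (Fin n) k) :
    ∃ m₀, ∀ m, m₀ ≤ m → ∃ H : MvPolynomial (Fin (n + 1)) k, H.IsHomogeneous m ∧ aeval (dehomVec n k b) H = p := by
  induction p using MvPolynomial.induction_on with
  | C r => exact ⟨0, fun m _ => ⟨C r * X b ^ m, (isHomogeneous_X_pow b m).C_mul r, by simp⟩⟩
  | add p q hp hq =>
    obtain ⟨m₁, h₁⟩ := hp
    obtain ⟨m₂, h₂⟩ := hq
    refine ⟨max m₁ m₂, fun m hm => ?_⟩
    obtain ⟨H₁, hH₁, e₁⟩ := h₁ m (le_of_max_le_left hm)
    obtain ⟨H₂, hH₂, e₂⟩ := h₂ m (le_of_max_le_right hm)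
    exact ⟨H₁ + H₂, hH₁.add hH₂, by rw [map_add, e₁, e₂]⟩
  | mul_X p j hp =>
    obtain ⟨m₁, h₁⟩ := hp
    refine ⟨m₁ + 1, fun m hm => ?_⟩
    obtain ⟨H, hH, e⟩ := h₁ (m - 1) (by omega)
    refine ⟨H * X (b.succAbove j), ?_, by rw [map_mul, e, aeval_X, dehomVec, Fin.insertNth_apply_succAbove]⟩
    have h := hH.mul (isHomogeneous_X k (b.succAbove j))
    rwa [show m - 1 + 1 = m by omega] at h

theorem eq_zero_of_dehom (b : Fin (n + 1)) {H : MvPolynomial (Fin (n + 1)) k} {m : ℕ} (hH : H.IsHomogeneous m)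
    (h : aeval (dehomVec n k b) H = 0) : H = 0 := by
  have hmem : H ∈ CohB1.polyGrading n k (m • 1) := by
    rw [smul_eq_mul, mul_one]; exact (MvPolynomial.mem_homogeneousSubmodule m H).2 hH
  let z := HomogeneousLocalization.Away.mk (CohB1.polyGrading n k) (ProjMap.X_mem (R := k) b) m H hmem
  have hz : awayToPoly n k b z = 0 := by
    have h1 := ProjMap.evalAway_mk (A := MvPolynomial (Fin n) k) (v := dehomVec n k b) (ProjMap.X_mem b)
      (by simp) m H hmem
    rw [h] at h1
    simpa [awayToPoly] using h1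
  have hz0 : z = 0 := by
    have h2 := congrArg (polyToAway n k b) hz
    rw [map_zero] at h2
    exact (congr($(polyToAway_comp n k b) z)).symm.trans h2
  have hv : Localization.mk H (⟨(X b) ^ m, m, rfl⟩ : Submonoid.powers (X b : MvPolynomial (Fin (n + 1)) k)) = 0 := by
    have h3 := congrArg HomogeneousLocalization.val hz0
    rwa [HomogeneousLocalization.Away.val_mk, HomogeneousLocalization.val_zero] at h3
  rw [Localization.mk_eq_mk'] at hv
  obtain ⟨⟨c, hc⟩, hcH⟩ := (IsLocalization.mk'_eq_zero_iff _ _).1 hv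
  obtain ⟨i, rfl⟩ := hc
  exact (mul_eq_zero.1 hcH).resolve_left (pow_ne_zero _ (X_ne_zero b))

/-- Evaluation in the function field at the coordinates of a chart. -/
def evT (b : Fin (n + 1)) : MvPolynomial (Fin (n + 1)) k →+* (Pn).functionField :=
  eval₂Hom ((φ n k 0).comp C) (t n k b)

theorem evT_eq (b : Fin (n + 1)) (H : MvPolynomial (Fin (n + 1)) k) :
    evT n k b H = φ n k b (aeval (dehomVec n k b) H) := by
  refine congr($(MvPolynomial.ringHom_ext (f := evT n k b)
    (g := (φ n k b).comp (aeval (dehomVec n k b)).toRingHom) (fun r => ?_) fun a => ?_) H)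
  · simp only [evT, eval₂Hom_C, RingHom.comp_apply, AlgHom.toRingHom_eq_coe, RingHom.coe_coe, aeval_C]
    exact φ_C n k 0 b r
  · simp only [evT, eval₂Hom_X', RingHom.comp_apply, AlgHom.toRingHom_eq_coe, RingHom.coe_coe, aeval_X]
    rcases Fin.eq_self_or_eq_succAbove b a with rfl | ⟨j, rfl⟩
    · rw [dehomVec, Fin.insertNth_apply_same, map_one, t_self]
    · rw [dehomVec, Fin.insertNth_apply_succAbove, φ_X]

theorem evT_inj (b : Fin (n + 1)) {H H' : MvPolynomial (Fin (n + 1)) k} {m : ℕ} (hH : H.IsHomogeneous m)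
    (hH' : H'.IsHomogeneous m) (h : evT n k b H = evT n k b H') : H = H' := by
  refine sub_eq_zero.1 (eq_zero_of_dehom n k b (hH.sub hH') ?_)
  refine φ_injective n k b ?_
  rw [← evT_eq, map_sub, h, sub_self, map_zero]

theorem evT_change (b c : Fin (n + 1)) {H : MvPolynomial (Fin (n + 1)) k} {m : ℕ} (hH : H.IsHomogeneous m) :
    evT n k b H = t n k b c ^ m * evT n k c H := by
  have e : t n k b = fun a => t n k b c * t n k c a := funext fun a => (t_mul n k b c a).symm
  show eval₂Hom ((φ n k 0).comp C) (t n k b) H = t n k b c ^ m * eval₂Hom ((φ n k 0).comp C) (t n k c) H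
  conv_lhs => rw [e]
  exact eval₂_scale ((φ n k 0).comp C) (t n k c) (t n k b c) hH

/-! ### The derivation of a vector field -/

/-- The derivation of a vector field. -/
def delta {X Y : Scheme.{u}} {f : X ⟶ Y} [QuasiSeparated f] (ξ : Omega.sheaf f ⟶ Coh.structureModule X) (U : X.Opens)
    (s : Γ(X, U)) : Γ(X, U) :=
  OmegaSh.fnSect X U (ξ.app U (OmegaSh.dSect f U s))

theorem delta_eq {X Y : Scheme.{u}} {f : X ⟶ Y} [QuasiSeparated f] (ξ : Omega.sheaf f ⟶ Coh.structureModule X) (U : X.Opens)
    (s : Γ(X, U)) :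
    delta ξ U s = OmegaSh.fnSect X U (OmegaSh.Der.app ((OmegaSh.dOmega f).postcomp ξ.val) U s) := rfl

theorem delta_mul {X Y : Scheme.{u}} {f : X ⟶ Y} [QuasiSeparated f] (ξ : Omega.sheaf f ⟶ Coh.structureModule X) (U : X.Opens)
    (a b : Γ(X, U)) : delta ξ U (a * b) = a * delta ξ U b + b * delta ξ U a := by
  simp only [delta_eq, OmegaUnivLib.app_mul, map_add]
  rfl

theorem delta_one {X Y : Scheme.{u}} {f : X ⟶ Y} [QuasiSeparated f] (ξ : Omega.sheaf f ⟶ Coh.structureModule X) (U : X.Opens) :
    delta ξ U 1 = 0 := by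
  rw [delta_eq, OmegaUnivLib.app_one, map_zero]

theorem delta_res {X Y : Scheme.{u}} {f : X ⟶ Y} [QuasiSeparated f] (ξ : Omega.sheaf f ⟶ Coh.structureModule X) {U V : X.Opens}
    (i : U ⟶ V) (s : Γ(X, V)) : delta ξ U (X.presheaf.map i.op s) = X.presheaf.map i.op (delta ξ V s) := by
  simp only [delta_eq, OmegaUnivLib.app_res]
  rfl

variable {n k}

variable (ξ : Omega.sheaf (CohB1.ProjSpace.toSpec n k) ⟶ Coh.structureModule (CohB1.ProjSpace n k))

/-- The generic germ of the value on a coordinate. -/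
def fab (a b : Fin (n + 1)) : (Pn).functionField :=
  (Pn).germToFunctionField (stdOpen n k b) (delta ξ (stdOpen n k b) (coordRatio n k b a))

theorem fab_self (b : Fin (n + 1)) : fab ξ b b = 0 := by
  rw [fab, coordRatio_self, delta_one, map_zero]

theorem fab_rel (a b c : Fin (n + 1)) : fab ξ a c = t n k c b * fab ξ a b + t n k b a * fab ξ b c := by
  let W := stdOpen n k b ⊓ stdOpen n k c
  haveI : Nonempty W := ⟨⟨gen n k, gen_mem n k (W := stdOpen n k b), gen_mem n k (W := stdOpen n k c)⟩⟩
  let rb : W ⟶ stdOpen n k b := homOfLE inf_le_left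
  let rc : W ⟶ stdOpen n k c := homOfLE inf_le_right
  have hg : gen n k ∈ W := gen_mem n k
  have gb : ∀ s : Γ(Pn, stdOpen n k b), (Pn).germToFunctionField W ((Pn).presheaf.map rb.op s) =
      (Pn).germToFunctionField (stdOpen n k b) s := fun s => (Pn).presheaf.germ_res_apply rb _ hg s
  have gc : ∀ s : Γ(Pn, stdOpen n k c), (Pn).germToFunctionField W ((Pn).presheaf.map rc.op s) =
      (Pn).germToFunctionField (stdOpen n k c) s := fun s => (Pn).presheaf.germ_res_apply rc _ hg s
  have heq : (Pn).presheaf.map rc.op (coordRatio n k c a) =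
      (Pn).presheaf.map rc.op (coordRatio n k c b) * (Pn).presheaf.map rb.op (coordRatio n k b a) := by
    refine (Pn).germToFunctionField_injective W ?_
    rw [map_mul, gc, gc, gb]
    exact (t_mul n k c b a).symm
  have h := congrArg (fun s => (Pn).germToFunctionField W (delta ξ W s)) heq
  simp only [delta_mul, delta_res, map_add, map_mul, gb, gc] at h
  exact h

theorem exists_forms : ∃ G : Fin (n + 1) → Fin (n + 1) → MvPolynomial (Fin (n + 1)) k,
    (∀ a b, (G a b).IsHomogeneous 2) ∧ (∀ a, G a a = 0) ∧ (∀ a b c, X b * G a c = X c * G a b + X a * G b c) ∧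
    ∀ a b, evT n k b (G a b) = fab ξ a b := by
  classical
  have hP : ∀ a b, ∃ p : MvPolynomial (Fin n) k, φ n k b p = fab ξ a b := fun a b =>
    ⟨(chartEquiv n k b).symm (delta ξ _ (coordRatio n k b a)), by
      show (Pn).germToFunctionField _ (chartEquiv n k b ((chartEquiv n k b).symm _)) = _
      rw [RingEquiv.apply_symm_apply]
      rfl⟩
  choose p hp using hP
  choose m₀ hm₀ using fun a b => exists_homog n k b (p a b)
  let m := 2 + Finset.univ.sup fun q : Fin (n + 1) × Fin (n + 1) => m₀ q.1 q.2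
  choose H hH hHp using fun a b => hm₀ a b m
    ((Finset.le_sup (f := fun q : Fin (n + 1) × Fin (n + 1) => m₀ q.1 q.2) (Finset.mem_univ (a, b))).trans
      (Nat.le_add_left _ _))
  have hev : ∀ a b, evT n k b (H a b) = fab ξ a b := fun a b => by rw [evT_eq, hHp, hp]
  have key : ∀ a b, ∃ G : MvPolynomial (Fin (n + 1)) k, G.IsHomogeneous 2 ∧ evT n k b G = fab ξ a b := fun a b => by
    rcases eq_or_ne a b with rfl | hab
    · exact ⟨0, isHomogeneous_zero _ _ _, by rw [map_zero, fab_self]⟩
    obtain ⟨l, hl⟩ : ∃ l, m = l + 2 := ⟨m - 2, by omega⟩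
    have hsym : fab ξ b a = - (t n k b a * t n k b a) * 0 + fab ξ b a := by ring
    have h1 : t n k a b * fab ξ a b + t n k b a * fab ξ b a = 0 := by rw [← fab_rel, fab_self]
    have h2 : X b ^ l * H b a = - (X a ^ l * H a b) := by
      refine evT_inj n k a (m := l + m) ((isHomogeneous_X_pow b l).mul (hH b a))
        ((isHomogeneous_X_pow a l).mul (hH a b)).neg ?_
      simp only [map_mul, map_neg, map_pow, hev]
      rw [evT_change n k a b (hH a b), hev, show evT n k a (X b) = t n k a b from eval₂Hom_X' _ _ _,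
        show evT n k a (X a) = t n k a a from eval₂Hom_X' _ _ _, t_self, one_pow, one_mul, hl, pow_add]
      have h3 : t n k a b * t n k b a = 1 := by rw [t_mul, t_self]
      linear_combination (t n k a b ^ l * t n k a b) * h1 - t n k a b ^ l * fab ξ b a * h3
    have hdvd : X b ^ l ∣ H a b := by
      have hp' : Prime (X b : MvPolynomial (Fin (n + 1)) k) := X_prime
      refine hp'.pow_dvd_of_dvd_mul_left l (a := X a ^ l) (fun hd => hab ?_) (dvd_neg.1 (h2 ▸ dvd_mul_right _ _))
      have hd' : (X b : MvPolynomial (Fin (n + 1)) k) ∣ X a := hp'.dvd_of_dvd_pow hd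
      exact ((X_dvd_X).1 hd').symm
    obtain ⟨Q, hQ⟩ := hdvd
    refine ⟨homogeneousComponent 2 Q, homogeneousComponent_isHomogeneous _ _, ?_⟩
    have hQ' : X b ^ l * homogeneousComponent 2 Q = H a b := by
      have h4 : ∀ (l : ℕ) (Q : MvPolynomial (Fin (n + 1)) k),
          homogeneousComponent (l + 2) (X b ^ l * Q) = X b ^ l * homogeneousComponent 2 Q := fun l => by
        induction l with
        | zero => intro Q; simp
        | succ l ih =>
          intro Q
          rw [pow_succ', mul_assoc, show l + 1 + 2 = l + 2 + 1 by omega, homogeneousComponent_X_mul, ih, mul_assoc]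
      rw [← h4, ← hl, ← hQ, homogeneousComponent_of_mem (hH a b), if_pos rfl]
    rw [← hev a b, ← hQ', map_mul, map_pow, show evT n k b (X b) = t n k b b from eval₂Hom_X' _ _ _, t_self, one_pow,
      one_mul]
  choose G hG hGe using key
  refine ⟨G, hG, fun a => evT_inj n k a (hG a a) (isHomogeneous_zero _ _ _) (by rw [map_zero, hGe, fab_self]),
    fun a b c => ?_, hGe⟩
  refine evT_inj n k c (m := 3) ((isHomogeneous_X k b).mul (hG a c))
    (((isHomogeneous_X k c).mul (hG a b)).add ((isHomogeneous_X k a).mul (hG b c))) ?_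
  simp only [map_mul, map_add, hGe, show ∀ x, evT n k c (X x) = t n k c x from fun x => eval₂Hom_X' _ _ x,
    t_self, one_mul]
  rw [evT_change n k c b (hG a b), hGe, fab_rel ξ a b c, ← t_mul n k c b a]
  ring

/-- A vector field on projective space has a zero. -/
theorem exists_zero_vectorField :
    ∃ x : ↥(Pn), ∀ (U : (Pn).Opens) (hx : x ∈ U) (s : Γ(Omega.sheaf (str), U)),
      (Pn).presheaf.germ U x hx (OmegaSh.fnSect (Pn) U (ξ.app U s)) ∈
        IsLocalRing.maximalIdeal ((Pn).presheaf.stalk x) := by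
  classical
  obtain ⟨G, hG, hdiag, hcoc, hGe⟩ := exists_forms ξ
  obtain ⟨v, hv, hzero⟩ := exists_zero G hG hdiag hcoc (AlgebraicClosure k)
  obtain ⟨b, hb⟩ : ∃ b, v b ≠ 0 := Function.ne_iff.1 hv
  let w : Fin n → AlgebraicClosure k := fun j => (v b)⁻¹ * v (b.succAbove j)
  let V := stdOpen n k b
  have hV : IsAffineOpen V := Proj.isAffineOpen_basicOpen _ _ (ProjMap.X_mem b) one_pos
  let ev : Γ(Pn, V) →+* AlgebraicClosure k := (aeval w).toRingHom.comp (chartEquiv n k b).symm.toRingHom
  let q : PrimeSpectrum Γ(Pn, V) := ⟨RingHom.ker ev, RingHom.ker_isPrime ev⟩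
  let x : ↥(Pn) := hV.fromSpec q
  have hxV : x ∈ V := by
    show hV.fromSpec q ∈ (V : Set _)
    rw [← hV.range_fromSpec]
    exact ⟨q, rfl⟩
  have hmax : ∀ s : Γ(Pn, V), ev s = 0 → (Pn).presheaf.germ V x hxV s ∈
      IsLocalRing.maximalIdeal ((Pn).presheaf.stalk x) := fun s hs => by
    rw [IsLocalRing.mem_maximalIdeal, mem_nonunits_iff, ← (Pn).mem_basicOpen s x hxV]
    intro h
    have h' : q ∈ hV.fromSpec ⁻¹ᵁ (Pn).basicOpen s := h
    rw [hV.fromSpec_preimage_basicOpen] at h'
    exact h' hs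
  have hvals : ∀ j : Fin n, ev (delta ξ V (coordRatio n k b (b.succAbove j))) = 0 := fun j => by
    have h1 : (chartEquiv n k b).symm (delta ξ V (coordRatio n k b (b.succAbove j))) =
        aeval (dehomVec n k b) (G (b.succAbove j) b) := by
      apply φ_injective n k b
      rw [← evT_eq, hGe]
      show (Pn).germToFunctionField _ (chartEquiv n k b ((chartEquiv n k b).symm _)) = _
      rw [RingEquiv.apply_symm_apply]
      rfl
    show aeval w ((chartEquiv n k b).symm _) = 0
    rw [h1, ← AlgHom.comp_apply, comp_aeval]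
    have h2 : (fun i => aeval w (dehomVec n k b i)) = fun i => (v b)⁻¹ * v i := by
      funext i
      rcases Fin.eq_self_or_eq_succAbove b i with rfl | ⟨l, rfl⟩
      · rw [dehomVec, Fin.insertNth_apply_same, map_one, inv_mul_cancel₀ hb]
      · rw [dehomVec, Fin.insertNth_apply_succAbove, aeval_X]
    rw [h2]
    have h3 : aeval (fun i => (v b)⁻¹ * v i) (G (b.succAbove j) b) =
        (v b)⁻¹ ^ 2 * aeval v (G (b.succAbove j) b) :=
      eval₂_scale (algebraMap k (AlgebraicClosure k)) v (v b)⁻¹ (hG (b.succAbove j) b)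
    rw [h3, hzero, mul_zero]
  refine ⟨x, fun U hx s => ?_⟩
  have hframe := SFFLib.isFrame_d (OmegaUnivLib.isUniversal_dOmega (str)) (isAffineOpen_top _) hV le_top
    (fun j : Fin n => coordRatio n k b (b.succAbove j)) (Equiv.refl _) (chartEquiv_eq_aeval n k b)
  let W := U ⊓ V
  have hxW : x ∈ W := ⟨hx, hxV⟩
  obtain ⟨r, hr⟩ := (hframe.res (inf_le_right : W ≤ V)).bijective.2
    ((Omega.sheaf (str)).presheaf.map (homOfLE (inf_le_left : W ≤ U)).op s)
  rw [Fintype.linearCombination_apply] at hr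
  have h1 : (Pn).presheaf.map (homOfLE (inf_le_left : W ≤ U)).op (OmegaSh.fnSect (Pn) U (ξ.app U s)) =
      ∑ j, r j * (Pn).presheaf.map (homOfLE (inf_le_right : W ≤ V)).op
        (delta ξ V (coordRatio n k b (b.succAbove j))) := by
    have h2 := ConcreteCategory.congr_hom (ξ.mapPresheaf.naturality (homOfLE (inf_le_left : W ≤ U)).op) s
    refine (congrArg (OmegaSh.fnSect (Pn) W) h2.symm).trans ?_
    refine (congrArg (fun z => OmegaSh.fnSect (Pn) W (ξ.app W z)) hr.symm).trans ?_
    rw [map_sum, map_sum]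
    refine Finset.sum_congr rfl fun j _ => ?_
    rw [Scheme.Modules.Hom.app_smul]
    refine (congrArg (fun z => r j * z) ?_)
    exact congrArg (OmegaSh.fnSect (Pn) W) (ConcreteCategory.congr_hom
      (ξ.mapPresheaf.naturality (homOfLE (inf_le_right : W ≤ V)).op) _)
  have h3 := congrArg ((Pn).presheaf.germ W x hxW) h1
  rw [TopCat.Presheaf.germ_res_apply, map_sum] at h3
  rw [h3]
  refine Ideal.sum_mem _ fun j _ => ?_
  rw [map_mul, TopCat.Presheaf.germ_res_apply]
  exact Ideal.mul_mem_left _ _ (hmax _ (hvals j))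

end Groth.Agent.PnVecFieldLib
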